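import Mathlib.AlgebraicGeometry.Morphisms.Finite
import Mathlib.AlgebraicGeometry.Morphisms.UniversallyInjective
import Mathlib.FieldTheory.PurelyInseparable.Basic
import Groth.Prelude.Def_Flat

/-! # Bounded residue degrees of a finite morphism -/

set_option autoImplicit false
universe u

open CategoryTheory AlgebraicGeometry

namespace Groth.Agent.ChowSym29

theorem finrank_le_of_gens {K L : Type u} [Field K] [Field L] [Algebra K L] {S : Type u} [CommRing S] (ev : S →+* L)
    (gens : Finset S) (hmem : ∀ s, ev s ∈ Submodule.span K (ev '' (gens : Set S)))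
    (hfrac : ∀ z : L, ∃ a b : S, ev b ≠ 0 ∧ z * ev b = ev a) :
    Module.Finite K L ∧ Module.finrank K L ≤ gens.card := by
  classical
  let M := Submodule.span K (ev '' (gens : Set S))
  have hM1 : (1 : L) ∈ M := by simpa using hmem 1
  have hmul : ∀ x ∈ M, ∀ y ∈ M, x * y ∈ M := by
    intro x hx y hy
    induction hx using Submodule.span_induction with
    | zero => simp
    | add a b _ _ ha hb => rw [add_mul]; exact M.add_mem ha hb
    | smul r a _ ha => rw [smul_mul_assoc]; exact M.smul_mem r ha
    | mem a ha =>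
      obtain ⟨a, -, rfl⟩ := ha
      induction hy using Submodule.span_induction with
      | zero => simp
      | add c d _ _ hc hd => rw [mul_add]; exact M.add_mem hc hd
      | smul r c _ hc => rw [mul_smul_comm]; exact M.smul_mem r hc
      | mem c hc =>
        obtain ⟨c, -, rfl⟩ := hc
        rw [← map_mul]; exact hmem _
  haveI : Module.Finite K M := Module.Finite.span_of_finite K (gens.finite_toSet.image _)
  let A : Subalgebra K L := M.toSubalgebra hM1 fun x y hx hy => hmul x hx y hy
  haveI : Module.Finite K A := inferInstanceAs (Module.Finite K M)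
  have htop : M = ⊤ := by
    refine Submodule.eq_top_iff'.mpr fun z => ?_
    obtain ⟨a, b, hb, hz⟩ := hfrac z
    have halg : IsAlgebraic K (ev b) :=
      (Algebra.IsAlgebraic.of_finite K A).isAlgebraic (⟨_, hmem b⟩ : A) |>.algHom A.val
    have hinv : (ev b)⁻¹ ∈ A := Subalgebra.inv_mem_of_algebraic (A := A) (x := ⟨_, hmem b⟩) halg
    rw [show z = ev a * (ev b)⁻¹ by rw [← hz, mul_assoc, mul_inv_cancel₀ hb, mul_one]]
    exact hmul _ (hmem a) _ hinv
  haveI : Module.Finite K (⊤ : Submodule K L) := htop ▸ (inferInstanceAs (Module.Finite K M))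
  have hfin : Module.Finite K L := Module.Finite.equiv Submodule.topEquiv
  refine ⟨hfin, ?_⟩
  rw [← finrank_top, ← htop]
  refine (show Module.finrank K M ≤ (gens.image ev).card from ?_).trans Finset.card_image_le
  have h := finrank_span_finset_le_card (R := K) (gens.image ev)
  rwa [Finset.coe_image] at h

theorem exists_bound_on {X Y : Scheme.{u}} (p : X ⟶ Y) [IsFinite p] {V : Y.Opens} (hV : IsAffineOpen V) :
    ∃ N : ℕ, ∀ x : X, p x ∈ V →
      @Module.Finite (Y.residueField (p x)) (X.residueField x) _ _ (p.residueFieldMap x).hom.toAlgebra.toModule ∧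
      @Module.finrank (Y.residueField (p x)) (X.residueField x) _ _ (p.residueFieldMap x).hom.toAlgebra.toModule ≤ N := by
  classical
  letI : Algebra Γ(Y, V) Γ(X, p ⁻¹ᵁ V) := (p.app V).hom.toAlgebra
  haveI : Module.Finite Γ(Y, V) Γ(X, p ⁻¹ᵁ V) := p.finite_app V hV
  obtain ⟨gens, hgens⟩ := (inferInstance : Module.Finite Γ(Y, V) Γ(X, p ⁻¹ᵁ V)).fg_top
  refine ⟨gens.card, fun x hx => ?_⟩
  letI : Algebra (Y.residueField (p x)) (X.residueField x) := (p.residueFieldMap x).hom.toAlgebra
  have hU : IsAffineOpen (p ⁻¹ᵁ V) := hV.preimage p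
  let ev := (X.evaluation (p ⁻¹ᵁ V) x hx).hom
  refine finrank_le_of_gens ev gens (fun s => ?_) fun z => ?_
  · have hs : s ∈ Submodule.span Γ(Y, V) (gens : Set Γ(X, p ⁻¹ᵁ V)) := hgens ▸ Submodule.mem_top
    induction hs using Submodule.span_induction with
    | mem e he => exact Submodule.subset_span ⟨e, he, rfl⟩
    | zero => rw [map_zero]; exact Submodule.zero_mem _
    | add a b _ _ ha hb => rw [map_add]; exact Submodule.add_mem _ ha hb
    | smul r a _ ha =>
      rw [Algebra.smul_def, map_mul]
      have h1 : ev (algebraMap Γ(Y, V) Γ(X, p ⁻¹ᵁ V) r) =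
          algebraMap (Y.residueField (p x)) (X.residueField x) (Y.evaluation V (p x) hx r) :=
        (Scheme.evaluation_naturality_apply p x hx r).symm
      rw [h1, ← Algebra.smul_def]
      exact Submodule.smul_mem _ _ ha
  · obtain ⟨t, rfl⟩ := X.residue_surjective x z
    have hx' : x ∈ p ⁻¹ᵁ V := hx
    letI := X.presheaf.algebra_section_stalk ⟨x, hx'⟩
    haveI := hU.isLocalization_stalk ⟨x, hx'⟩
    obtain ⟨⟨a, b, hb⟩, hab⟩ := IsLocalization.surj (hU.primeIdealOf ⟨x, hx'⟩).asIdeal.primeCompl t
    refine ⟨a, b, ?_, ?_⟩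
    · have hu : IsUnit (algebraMap Γ(X, p ⁻¹ᵁ V) (X.presheaf.stalk x) b) :=
        IsLocalization.map_units _ (⟨b, hb⟩ : (hU.primeIdealOf ⟨x, hx'⟩).asIdeal.primeCompl)
      exact (hu.map (X.residue x).hom).ne_zero
    · have := congrArg (X.residue x).hom hab
      rw [map_mul] at this
      exact this

theorem exists_bound {X Y : Scheme.{u}} (p : X ⟶ Y) [IsFinite p] [CompactSpace Y] :
    ∃ N : ℕ, ∀ x : X,
      @Module.Finite (Y.residueField (p x)) (X.residueField x) _ _ (p.residueFieldMap x).hom.toAlgebra.toModule ∧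
      @Module.finrank (Y.residueField (p x)) (X.residueField x) _ _ (p.residueFieldMap x).hom.toAlgebra.toModule ≤ N := by
  classical
  let 𝒰 := Y.affineCover.finiteSubcover
  choose N hN using fun i : 𝒰.I₀ => exists_bound_on p (isAffineOpen_opensRange (𝒰.f i))
  haveI : Fintype 𝒰.I₀ := Fintype.ofFinite _
  refine ⟨Finset.univ.sup N, fun x => ?_⟩
  obtain ⟨i, hi⟩ : ∃ i, p x ∈ (𝒰.f i).opensRange := ⟨_, 𝒰.covers (p x)⟩
  exact ⟨(hN i x hi).1, (hN i x hi).2.trans (Finset.le_sup (Finset.mem_univ i))⟩

end Groth.Agent.ChowSym29
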