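import Groth.Prelude.Def_HTop2
import Mathlib.RingTheory.Ideal.GoingUp
import Mathlib.RingTheory.Ideal.MinimalPrime.Noetherian
import Mathlib.RingTheory.Noetherian.Basic

/-! # Seminormal rings have no finite subintegral extensions -/

set_option autoImplicit false
universe u

namespace Groth.Agent.ChowSym29

variable {C S : Type u} [CommRing C] [CommRing S] [IsReduced S]

theorem isReduced_of_seminormal (hC : HTop.IsSeminormalRing C) : IsReduced C := by
  refine (isReduced_iff_pow_one_lt 2 (by norm_num)).mpr fun x hx => ?_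
  have h0 : (0 : C) ^ 3 = 0 ^ 2 := by simp
  exact (hC 0 0 h0).unique ⟨hx.symm, by rw [show x ^ 3 = x ^ 2 * x by ring, hx, zero_mul]⟩ ⟨by simp, by simp⟩

theorem injective_of_surjective_comap (hC : HTop.IsSeminormalRing C) (g : C →+* S)
    (hs : Function.Surjective (PrimeSpectrum.comap g)) : Function.Injective g := by
  haveI := isReduced_of_seminormal hC
  refine (injective_iff_map_eq_zero g).mpr fun x hx => IsReduced.eq_zero x (nilpotent_iff_mem_prime.mpr fun p hp => ?_)
  obtain ⟨q, hq⟩ := hs ⟨p, hp⟩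
  rw [show p = q.asIdeal.comap g from congrArg PrimeSpectrum.asIdeal hq.symm, Ideal.mem_comap, hx]
  exact Ideal.zero_mem _

theorem mem_range_of_sq_of_cube (hC : HTop.IsSeminormalRing C) (g : C →+* S) (hg : Function.Injective g) {x : S}
    (h2 : x ^ 2 ∈ g.range) (h3 : x ^ 3 ∈ g.range) : x ∈ g.range := by
  obtain ⟨a, ha⟩ := h2
  obtain ⟨b, hb⟩ := h3
  obtain ⟨c, ⟨hc2, hc3⟩, -⟩ := hC a b (hg (by rw [map_pow, map_pow, ha, hb]; ring))
  refine ⟨c, ?_⟩
  have e2 : g c ^ 2 = x ^ 2 := by rw [← map_pow, ← hc2, ha]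
  have e3 : g c ^ 3 = x ^ 3 := by rw [← map_pow, ← hc3, hb]
  have h1 : x * (g c - x) = 0 := IsReduced.eq_zero _ ⟨2, by linear_combination 2 * g c * e3 - 2 * (g c ^ 2 + x ^ 2) * e2 + x ^ 2 * e2⟩
  have h4 : g c * (g c - x) = 0 := IsReduced.eq_zero _ ⟨2, by linear_combination (g c ^ 2 + 2 * x ^ 2) * e2 - 2 * x * e3⟩
  exact sub_eq_zero.mp (IsReduced.eq_zero _ ⟨2, by linear_combination h4 - h1⟩)

theorem mem_range_of_residue [IsNoetherianRing C] (hC : HTop.IsSeminormalRing C) (g : C →+* S) (hfin : g.Finite)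
    (hbij : Function.Bijective (PrimeSpectrum.comap g)) {y : S}
    (hy : ∀ q : PrimeSpectrum S, ∃ a t : C, g t ∉ q.asIdeal ∧ g t * y - g a ∈ q.asIdeal) : y ∈ g.range := by
  classical
  algebraize [g]
  have hginj : Function.Injective g := injective_of_surjective_comap hC g hbij.2
  let D : Subalgebra C S :=
    { carrier := {z | ∀ q : PrimeSpectrum S, ∃ a t : C, g t ∉ q.asIdeal ∧ g t * z - g a ∈ q.asIdeal}
      algebraMap_mem' := fun c q => ⟨c, 1, fun h => q.isPrime.ne_top ((Ideal.eq_top_iff_one _).mpr (by simpa using h)),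
        by simp [RingHom.algebraMap_toAlgebra]⟩
      add_mem' := fun {z w} hz hw q => by
        obtain ⟨a, t, ht, hat⟩ := hz q
        obtain ⟨b, r, hr, hbr⟩ := hw q
        refine ⟨r * a + t * b, t * r, by rw [map_mul]; exact q.isPrime.mul_notMem ht hr, ?_⟩
        have := add_mem (q.asIdeal.mul_mem_left (g r) hat) (q.asIdeal.mul_mem_left (g t) hbr)
        convert this using 1
        simp only [map_mul, map_add]; ring
      mul_mem' := fun {z w} hz hw q => by
        obtain ⟨a, t, ht, hat⟩ := hz q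
        obtain ⟨b, r, hr, hbr⟩ := hw q
        refine ⟨a * b, t * r, by rw [map_mul]; exact q.isPrime.mul_notMem ht hr, ?_⟩
        have := add_mem (q.asIdeal.mul_mem_left (g r * w) hat) (q.asIdeal.mul_mem_left (g a) hbr)
        convert this using 1
        simp only [map_mul]; ring }
  have hDfin : Module.Finite C D := Module.Finite.iff_fg.mpr (IsNoetherian.noetherian (Subalgebra.toSubmodule D))
  haveI := hDfin
  haveI : IsNoetherianRing D := isNoetherianRing_iff.mpr (isNoetherian_of_tower C (inferInstance : IsNoetherian C D))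
  haveI : Algebra.IsIntegral C D := Algebra.IsIntegral.of_finite C D
  haveI : Algebra.IsIntegral D S := ⟨fun x => (Algebra.IsIntegral.isIntegral (R := C) x).tower_top⟩
  have hlift : ∀ Q : Ideal D, Q.IsPrime → ∃ q : PrimeSpectrum S, q.asIdeal.comap (algebraMap D S) = Q := fun Q hQ => by
    obtain ⟨q, -, hq, hqQ⟩ := Ideal.exists_ideal_over_prime_of_isIntegral Q (⊥ : Ideal S)
      (by rw [← RingHom.ker_eq_comap_bot, (RingHom.injective_iff_ker_eq_bot _).mp Subtype.val_injective]; exact bot_le)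
    exact ⟨⟨q, hq⟩, hqQ⟩
  have hinjD : ∀ Q₁ Q₂ : Ideal D, Q₁.IsPrime → Q₂.IsPrime → Q₁.comap (algebraMap C D) = Q₂.comap (algebraMap C D) → Q₁ = Q₂ := by
    intro Q₁ Q₂ h1 h2 h
    obtain ⟨q₁, rfl⟩ := hlift Q₁ h1
    obtain ⟨q₂, rfl⟩ := hlift Q₂ h2
    rw [show q₁ = q₂ from hbij.1 (PrimeSpectrum.ext h)]
  let c : Ideal D :=
    { carrier := {d | ∀ e : D, ((d * e : D) : S) ∈ g.range}
      add_mem' := fun {p r} hp hr e => by rw [add_mul]; exact g.range.add_mem (hp e) (hr e)
      zero_mem' := fun e => by rw [zero_mul]; exact g.range.zero_mem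
      smul_mem' := fun s d hd e => by rw [smul_eq_mul, mul_comm s, mul_assoc]; exact hd (s * e) }
  have hsemi : ∀ x : D, x ^ 2 ∈ c → x ^ 3 ∈ c → x ∈ c := fun x h2 h3 e =>
    mem_range_of_sq_of_cube hC g hginj (show (D.val (x * e)) ^ 2 ∈ g.range by rw [← map_pow, mul_pow]; exact h2 (e ^ 2))
      (show (D.val (x * e)) ^ 3 ∈ g.range by rw [← map_pow, mul_pow]; exact h3 (e ^ 3))
  have hrad : ∀ (n : ℕ) (x : D), x ^ n ∈ c → x ∈ c := by
    intro n
    induction n with
    | zero => intro x h; rw [pow_zero] at h; exact (Ideal.eq_top_iff_one c).mpr h ▸ Submodule.mem_top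
    | succ n ih =>
      intro x h
      rcases Nat.eq_zero_or_pos n with rfl | hn
      · simpa using h
      · refine ih x (hsemi _ ?_ ?_) <;> rw [← pow_mul] <;> exact Ideal.pow_mem_of_pow_mem c h (by omega)
  suffices htop : c = ⊤ by
    have := (htop ▸ Submodule.mem_top : (1 : D) ∈ c) ⟨y, hy⟩
    simpa using this
  by_contra hne
  obtain ⟨Q, hQmin⟩ := Ideal.nonempty_minimalPrimes hne
  haveI hQp : Q.IsPrime := hQmin.1.1
  let p : Ideal C := Q.comap (algebraMap C D)
  let others : Finset (Ideal D) := ((Ideal.finite_minimalPrimes_of_isNoetherianRing D c).toFinset).erase Q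
  have hu : ∀ Q' ∈ others, ∃ u : C, u ∈ Q'.comap (algebraMap C D) ∧ u ∉ p := by
    intro Q' hQ'
    obtain ⟨hne', hmem⟩ := Finset.mem_erase.mp hQ'
    rw [Set.Finite.mem_toFinset] at hmem
    by_contra hc
    push Not at hc
    haveI := hmem.1.1
    obtain ⟨Q'', hle, hQ'', hcomap⟩ := Ideal.exists_ideal_over_prime_of_isIntegral p Q' (fun u hu => hc u hu)
    obtain rfl := hinjD Q'' Q hQ'' hQp hcomap
    exact hne' (le_antisymm hle (hQmin.2 hmem.1 hle))
  choose! u hu₁ hu₂ using hu
  let U : C := ∏ Q' ∈ others, u Q'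
  have hU : U ∉ p := fun h => by
    obtain ⟨Q', hQ', h'⟩ := (inferInstance : p.IsPrime).prod_mem_iff.mp h
    exact hu₂ Q' hQ' h'
  have hkey : ∀ d : D, ∃ t : C, t ∉ p ∧ g (U * t) * (d : S) ∈ g.range := by
    intro d
    obtain ⟨q, hq⟩ := hlift Q hQp
    obtain ⟨a, t, ht, hat⟩ := d.2 q
    refine ⟨t, fun h => ht (by rw [show p = Q.comap (algebraMap C D) from rfl, ← hq] at h; exact h), ?_⟩
    have hz : algebraMap C D t * d - algebraMap C D a ∈ Q := by rw [← hq]; exact hat
    have hmem : algebraMap C D U * (algebraMap C D t * d - algebraMap C D a) ∈ c.radical := by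
      rw [← Ideal.sInf_minimalPrimes, Submodule.mem_sInf]
      intro Q' hQ'
      by_cases h : Q' = Q
      · exact h ▸ Q.mul_mem_left _ hz
      · refine Ideal.mul_mem_right (I := (Q' : Ideal D)) _ ?_
        have hm : Q' ∈ others := Finset.mem_erase.mpr ⟨h, (Set.Finite.mem_toFinset _).mpr hQ'⟩
        rw [map_prod, ← Finset.mul_prod_erase _ _ hm]
        exact Ideal.mul_mem_right (I := (Q' : Ideal D)) _ (hu₁ Q' hm)
    obtain ⟨n, hn⟩ := hmem
    obtain ⟨w, hw⟩ := hrad n _ hn 1
    refine ⟨w + U * a, ?_⟩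
    rw [map_add, hw]
    simp [RingHom.algebraMap_toAlgebra, mul_sub, mul_assoc]
  choose t ht₁ ht₂ using hkey
  obtain ⟨gens, hgens⟩ := (inferInstance : Module.Finite C D).fg_top
  let T : C := ∏ d ∈ gens, t d
  have hT : ∀ d : D, g (U * T) * (d : S) ∈ g.range := by
    intro d
    have hd : d ∈ Submodule.span C (gens : Set D) := hgens ▸ Submodule.mem_top
    induction hd using Submodule.span_induction with
    | mem e he =>
      obtain ⟨w, hw⟩ := ht₂ e
      refine ⟨(∏ x ∈ gens.erase e, t x) * w, ?_⟩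
      rw [map_mul, hw, show T = _ from (Finset.mul_prod_erase gens t he).symm]
      simp only [map_mul]; ring
    | zero => simp
    | add a b _ _ ha hb => rw [Subalgebra.coe_add, mul_add]; exact g.range.add_mem ha hb
    | smul r a _ ha =>
      rw [SetLike.val_smul, Algebra.smul_def, RingHom.algebraMap_toAlgebra, mul_left_comm]
      exact g.range.mul_mem ⟨r, rfl⟩ ha
  have hc : algebraMap C D (U * T) ∈ c := fun e => by simpa [RingHom.algebraMap_toAlgebra] using hT e
  have hcQ : U * T ∈ p := hQmin.1.2 hc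
  rcases Ideal.IsPrime.mem_or_mem (I := p) inferInstance hcQ with h | h
  · exact hU h
  · obtain ⟨d, -, hd⟩ := (inferInstance : p.IsPrime).prod_mem_iff.mp h
    exact ht₁ d hd

end Groth.Agent.ChowSym29
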