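import Groth.Agent.ChowSym29.SymRes
import Groth.Agent.ChowSym29.Seminormal
import Mathlib.AlgebraicGeometry.Morphisms.UniversallyInjective
import Mathlib.RingTheory.LocalRing.ResidueField.Ideal
import Groth.Prelude.Def_Flat

/-! # Residue fields along a finite universal homeomorphism -/

set_option autoImplicit false
universe u

open CategoryTheory AlgebraicGeometry
open scoped TensorProduct

namespace Groth.Agent.ChowSym29

variable {C S : Type u} [CommRing C] [CommRing S] (g : C →+* S)

theorem bijective_comap (hg : FlatMor.IsUnivHomeo (Spec.map (CommRingCat.ofHom g))) :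
    Function.Bijective (PrimeSpectrum.comap g) :=
  (MorphismProperty.universally_le _ _ hg : IsHomeomorph _).bijective

theorem universallyInjective (hg : FlatMor.IsUnivHomeo (Spec.map (CommRingCat.ofHom g))) :
    UniversallyInjective (Spec.map (CommRingCat.ofHom g)) :=
  ⟨MorphismProperty.universally_mono (fun _ _ _ h => h.injective) _ hg⟩

/-- the residue field map at a prime of `S` -/
noncomputable abbrev resMap (q : PrimeSpectrum S) : (PrimeSpectrum.comap g q).asIdeal.ResidueField →+* q.asIdeal.ResidueField :=
  Ideal.ResidueField.map (PrimeSpectrum.comap g q).asIdeal q.asIdeal g rfl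

theorem resMap_algebraMap (q : PrimeSpectrum S) (c : C) :
    resMap g q (algebraMap C (PrimeSpectrum.comap g q).asIdeal.ResidueField c) =
      algebraMap S q.asIdeal.ResidueField (g c) := by
  show IsLocalRing.ResidueField.map (Localization.localRingHom _ q.asIdeal g rfl)
    (IsLocalRing.residue _ (algebraMap C (Localization.AtPrime (PrimeSpectrum.comap g q).asIdeal) c)) = _
  rw [IsLocalRing.ResidueField.map_residue]
  refine (congrArg (IsLocalRing.residue _) (Localization.localRingHom_to_map _ _ _ rfl c)).trans ?_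
  rfl

theorem resMap_finite (hfin : g.Finite) (q : PrimeSpectrum S) : (resMap g q).Finite := by
  classical
  let K := (PrimeSpectrum.comap g q).asIdeal.ResidueField
  let L := q.asIdeal.ResidueField
  letI : Algebra K L := (resMap g q).toAlgebra
  algebraize [g]
  obtain ⟨gens, hgens⟩ := (inferInstance : Module.Finite C S).fg_top
  let T : Set L := (algebraMap S L) '' (gens : Set S)
  have hint : ∀ x ∈ T, IsIntegral K x := by
    rintro _ ⟨s, -, rfl⟩
    obtain ⟨P, hP, hP0⟩ := Algebra.IsIntegral.isIntegral (R := C) s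
    refine ⟨P.map (algebraMap C K), hP.map _, ?_⟩
    rw [Polynomial.eval₂_map]
    have h1 : (algebraMap K L).comp (algebraMap C K) = (algebraMap S L).comp (algebraMap C S) :=
      RingHom.ext fun c => resMap_algebraMap g q c
    rw [h1, ← Polynomial.hom_eval₂, hP0, map_zero]
  have hT : Set.Finite T := gens.finite_toSet.image _
  let L' := Algebra.adjoin K T
  haveI hL' : Module.Finite K L' := Module.Finite.iff_fg.mpr (fg_adjoin_of_finite hT hint)
  have hS : ∀ s : S, algebraMap S L s ∈ L' := fun s => by
    have hs : s ∈ Submodule.span C (gens : Set S) := hgens ▸ Submodule.mem_top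
    induction hs using Submodule.span_induction with
    | mem e he => exact Algebra.subset_adjoin ⟨e, he, rfl⟩
    | zero => rw [map_zero]; exact L'.zero_mem
    | add a b _ _ ha hb => rw [map_add]; exact L'.add_mem ha hb
    | smul r a _ ha =>
      rw [Algebra.smul_def, map_mul, RingHom.algebraMap_toAlgebra g, ← resMap_algebraMap]
      exact L'.mul_mem (L'.algebraMap_mem _) ha
  have htop : L' = ⊤ := Algebra.eq_top_iff.mpr fun z => by
    obtain ⟨a, b, hb, rfl⟩ := IsFractionRing.div_surjective (S ⧸ q.asIdeal) z
    obtain ⟨a, rfl⟩ := Ideal.Quotient.mk_surjective a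
    obtain ⟨b, rfl⟩ := Ideal.Quotient.mk_surjective b
    rw [div_eq_mul_inv]
    refine L'.mul_mem (hS a) ?_
    have halg : IsAlgebraic K (algebraMap S L b) :=
      (Algebra.IsAlgebraic.of_finite K L').isAlgebraic (⟨_, hS b⟩ : L') |>.algHom L'.val
    exact Subalgebra.inv_mem_of_algebraic (A := L') (x := ⟨_, hS b⟩) halg
  show Module.Finite K L
  haveI : Module.Finite K (⊤ : Subalgebra K L) := htop ▸ hL'
  exact Module.Finite.equiv Subalgebra.topEquiv.toLinearEquiv

theorem resMap_isPurelyInseparable (hg : FlatMor.IsUnivHomeo (Spec.map (CommRingCat.ofHom g))) (hfin : g.Finite)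
    (q : PrimeSpectrum S) : (resMap g q).IsPurelyInseparable := by
  haveI := universallyInjective g hg
  let K := (PrimeSpectrum.comap g q).asIdeal.ResidueField
  let L := q.asIdeal.ResidueField
  letI : Algebra K L := (resMap g q).toAlgebra
  haveI : Module.Finite K L := resMap_finite g hfin q
  show IsPurelyInseparable K L
  rw [isPurelyInseparable_iff_subsingleton_emb, subsingleton_iff]
  intro σ₁ σ₂
  have hinj := (List.TFAE.out (tfae_universallyInjective (Spec.map (CommRingCat.ofHom g))) 0 1 (a := _) (b := _) rfl rfl).mp inferInstance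
    (AlgebraicClosure L)
  have he : (σ₁.toRingHom.comp (algebraMap S L)) = σ₂.toRingHom.comp (algebraMap S L) := by
    refine congrArg CommRingCat.Hom.hom (Spec.map_injective (hinj (a₁ := Spec.map (CommRingCat.ofHom (σ₁.toRingHom.comp (algebraMap S L))))
      (a₂ := Spec.map (CommRingCat.ofHom (σ₂.toRingHom.comp (algebraMap S L)))) ?_))
    simp only [← Spec.map_comp, ← CommRingCat.ofHom_comp]
    congr 2
    refine RingHom.ext fun c => ?_
    show σ₁ (algebraMap S L (g c)) = σ₂ (algebraMap S L (g c))
    rw [← resMap_algebraMap]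
    exact (σ₁.commutes _).trans (σ₂.commutes _).symm
  exact AlgHom.coe_ringHom_injective (Ideal.ResidueField.ringHom_ext he)

theorem exists_fraction {A B : Type u} [CommRing A] [CommRing B] [Algebra A C] [Algebra A S] [Algebra A B]
    (g : C →ₐ[A] S) (hfin : g.toRingHom.Finite) (hg : FlatMor.IsUnivHomeo (Spec.map (CommRingCat.ofHom g.toRingHom)))
    {d : ℕ} (φ : B →ₐ[A] S) (x : ⨂[A] _ : Fin d, B)
    (hx : ∀ σ : Equiv.Perm (Fin d), PiTensorProduct.reindex A (fun _ : Fin d => B) σ x = x) (q : PrimeSpectrum S)
    (hdeg : @Module.finrank (PrimeSpectrum.comap g.toRingHom q).asIdeal.ResidueField q.asIdeal.ResidueField _ _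
      (resMap g.toRingHom q).toAlgebra.toModule ∣ d) :
    ∃ a t : C, g t ∉ q.asIdeal ∧
      g t * φ (PiTensorProduct.lift (MultilinearMap.mkPiAlgebra A (Fin d) B) x) - g a ∈ q.asIdeal := by
  let K := (PrimeSpectrum.comap g.toRingHom q).asIdeal.ResidueField
  let L := q.asIdeal.ResidueField
  letI : Algebra K L := (resMap g.toRingHom q).toAlgebra
  haveI : IsScalarTower A K L := IsScalarTower.of_algebraMap_eq fun r => by
    show algebraMap A L r = resMap g.toRingHom q (algebraMap A K r)
    rw [IsScalarTower.algebraMap_apply A C K, resMap_algebraMap, IsScalarTower.algebraMap_apply A S L]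
    congr 1
    exact (g.commutes r).symm
  haveI : Module.Finite K L := resMap_finite g.toRingHom hfin q
  haveI : IsPurelyInseparable K L := resMap_isPurelyInseparable g.toRingHom hg hfin q
  let ψ : B →ₐ[A] L := (IsScalarTower.toAlgHom A S L).comp φ
  let Ψ : (⨂[A] _ : Fin d, B) →ₗ[A] (⨂[K] _ : Fin d, L) :=
    PiTensorProduct.lift (((PiTensorProduct.tprod K).restrictScalars A).compLinearMap fun _ => ψ.toLinearMap)
  have hΨ : ∀ f : Fin d → B, Ψ (PiTensorProduct.tprod A f) = PiTensorProduct.tprod K fun i => ψ (f i) := fun f =>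
    PiTensorProduct.lift.tprod f
  have hinv : ∀ (σ : Equiv.Perm (Fin d)) (z : ⨂[A] _ : Fin d, B),
      PiTensorProduct.reindex K (fun _ : Fin d => L) σ (Ψ z) = Ψ (PiTensorProduct.reindex A (fun _ : Fin d => B) σ z) := by
    intro σ z
    induction z using PiTensorProduct.induction_on with
    | smul_tprod r f =>
      rw [Ψ.map_smul, LinearEquiv.map_smul, Ψ.map_smul, PiTensorProduct.reindex_tprod, hΨ, hΨ]
      refine ((PiTensorProduct.reindex K (fun _ : Fin d => L) σ).toLinearMap.map_smul_of_tower r _).trans ?_
      exact congrArg (r • ·) (PiTensorProduct.reindex_tprod σ _)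
    | add a b ha hb => simp only [map_add, ha, hb]
  have hmult : ∀ z : ⨂[A] _ : Fin d, B, PiTensorProduct.lift (MultilinearMap.mkPiAlgebra K (Fin d) L) (Ψ z) =
      ψ (PiTensorProduct.lift (MultilinearMap.mkPiAlgebra A (Fin d) B) z) := by
    intro z
    induction z using PiTensorProduct.induction_on with
    | smul_tprod r f =>
      rw [map_smul, LinearMap.map_smul_of_tower, hΨ, map_smul, map_smul]
      simp
    | add a b ha hb => simp only [map_add, ha, hb]
  obtain ⟨c, hc⟩ := mult_invariant_mem (K := K) (L := L) hdeg (Ψ x) fun σ => by rw [hinv, hx]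
  rw [hmult] at hc
  obtain ⟨a, t, ht, rfl⟩ := IsFractionRing.div_surjective (C ⧸ (PrimeSpectrum.comap g.toRingHom q).asIdeal) c
  obtain ⟨a, rfl⟩ := Ideal.Quotient.mk_surjective a
  obtain ⟨t, rfl⟩ := Ideal.Quotient.mk_surjective t
  have htq : g t ∉ q.asIdeal := fun h => nonZeroDivisors.ne_zero ht (Ideal.Quotient.eq_zero_iff_mem.mpr h)
  refine ⟨a, t, htq, ?_⟩
  rw [← Ideal.algebraMap_residueField_eq_zero, map_sub, map_mul, sub_eq_zero]
  have hne : algebraMap S L (g t) ≠ 0 := fun h => htq (Ideal.algebraMap_residueField_eq_zero.mp h)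
  have h2 : algebraMap S L (g a) / algebraMap S L (g t) =
      algebraMap S L (φ (PiTensorProduct.lift (MultilinearMap.mkPiAlgebra A (Fin d) B) x)) := by
    refine Eq.trans ?_ hc
    show _ = resMap g.toRingHom q _
    rw [map_div₀]
    exact congrArg₂ (· / ·) (resMap_algebraMap g.toRingHom q a).symm (resMap_algebraMap g.toRingHom q t).symm
  rw [← h2, mul_div_cancel₀ _ hne]

end Groth.Agent.ChowSym29
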