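import Mathlib.LinearAlgebra.PiTensorProduct.Basis
import Mathlib.RingTheory.PiTensorProduct
import Mathlib.FieldTheory.PurelyInseparable.Basic
import Mathlib.GroupTheory.PGroup
import Mathlib.LinearAlgebra.Basis.VectorSpace

/-! # Products of symmetric tensors in purely inseparable extensions -/

set_option autoImplicit false
universe u

open scoped TensorProduct

namespace Groth.Agent.ChowSym29

theorem sum_mem_of_fixed {p : ℕ} [Fact p.Prime] {G X : Type*} [Group G] [Finite G] (hG : IsPGroup p G)
    [MulAction G X] [Fintype X] {L : Type*} [CommRing L] [CharP L p] (M : AddSubgroup L) (F : X → L)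
    (hF : ∀ (g : G) x, F (g • x) = F x) (hfix : ∀ x, (∀ g : G, g • x = x) → F x ∈ M) :
    ∑ x, F x ∈ M := by
  classical
  rw [← Finset.sum_fiberwise_of_maps_to (t := Finset.univ (α := Quotient (MulAction.orbitRel G X)))
    (g := Quotient.mk (MulAction.orbitRel G X)) (fun x _ => Finset.mem_univ _)]
  refine M.sum_mem fun o _ => ?_
  induction o using Quotient.inductionOn with
  | h x =>
    have hset : Finset.univ.filter (fun y => Quotient.mk (MulAction.orbitRel G X) y = Quotient.mk _ x) =
        (MulAction.orbit G x).toFinset := by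
      ext y
      rw [Finset.mem_filter, Set.mem_toFinset]
      exact ⟨fun h => MulAction.orbitRel_apply.mp (Quotient.exact h.2),
        fun h => ⟨Finset.mem_univ _, Quotient.sound (MulAction.orbitRel_apply.mpr h)⟩⟩
    rw [hset, Finset.sum_congr rfl (g := fun _ => F x) (fun y hy => by
      obtain ⟨g, rfl⟩ := Set.mem_toFinset.mp hy
      exact hF g x), Finset.sum_const]
    obtain ⟨j, hj⟩ := hG.card_orbit x
    rw [Nat.card_eq_fintype_card, ← Set.toFinset_card] at hj
    rcases j with - | j
    · rw [hj, pow_zero, one_smul]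
      refine hfix x fun g => ?_
      rw [pow_zero, Finset.card_eq_one] at hj
      obtain ⟨a, ha⟩ := hj
      have h1 : g • x ∈ (MulAction.orbit G x).toFinset := Set.mem_toFinset.mpr ⟨g, rfl⟩
      have h2 : x ∈ (MulAction.orbit G x).toFinset := Set.mem_toFinset.mpr (MulAction.mem_orbit_self x)
      rw [ha, Finset.mem_singleton] at h1 h2
      rw [h1, h2]
    · rw [hj, nsmul_eq_mul, Nat.cast_pow, CharP.cast_eq_zero L p, zero_pow (Nat.succ_ne_zero j), zero_mul]
      exact M.zero_mem

theorem mult_invariant_mem {K L : Type u} [Field K] [Field L] [Algebra K L] [FiniteDimensional K L]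
    [IsPurelyInseparable K L] {d : ℕ} (hd : Module.finrank K L ∣ d) (t : ⨂[K] _ : Fin d, L)
    (ht : ∀ σ : Equiv.Perm (Fin d), PiTensorProduct.reindex K (fun _ : Fin d => L) σ t = t) :
    PiTensorProduct.lift (MultilinearMap.mkPiAlgebra K (Fin d) L) t ∈ Set.range (algebraMap K L) := by
  classical
  obtain ⟨q, hq⟩ := ExpChar.exists K
  obtain ⟨e, he⟩ := IsPurelyInseparable.finrank_eq_pow K L q
  have hpow : ∀ x : L, x ^ q ^ e ∈ Set.range (algebraMap K L) := fun x => by
    obtain ⟨n, y, h⟩ := IsPurelyInseparable.minpoly_eq_X_pow_sub_C K q x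
    have hdeg : q ^ n ∣ q ^ e := by
      rw [← he]
      have := minpoly.degree_dvd (K := K) (L := L) (x := x) (Algebra.IsIntegral.isIntegral x)
      rwa [h, Polynomial.natDegree_X_pow_sub_C] at this
    obtain ⟨c, hc⟩ := hdeg
    have hx := minpoly.aeval K x
    rw [h, map_sub, map_pow, Polynomial.aeval_X, Polynomial.aeval_C, sub_eq_zero] at hx
    exact ⟨y ^ c, by rw [map_pow, ← hx, ← pow_mul, hc]⟩
  cases hq with
  | zero =>
    obtain ⟨c, hc⟩ := hpow (PiTensorProduct.lift (MultilinearMap.mkPiAlgebra K (Fin d) L) t)
    exact ⟨c, by simpa using hc⟩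
  | prime hp =>
    haveI : Fact q.Prime := ⟨hp⟩
    haveI : CharP L q := charP_of_injective_algebraMap (algebraMap K L).injective q
    rw [he] at hd
    obtain ⟨r, rfl⟩ := hd
    haveI : NeZero (q ^ e) := ⟨pow_ne_zero _ hp.ne_zero⟩
    let b := Module.finBasis K L
    let B := Basis.piTensorProduct fun _ : Fin (q ^ e * r) => b
    let pairs : Fin (q ^ e * r) ≃ ZMod (q ^ e) × Fin r :=
      finProdFinEquiv.symm.trans (Equiv.prodCongr (ZMod.finEquiv (q ^ e)).toEquiv (Equiv.refl _))
    let sh : Multiplicative (ZMod (q ^ e)) →* Equiv.Perm (Fin (q ^ e * r)) :=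
      { toFun := fun a => (pairs.trans (Equiv.prodCongr (Equiv.addLeft a.toAdd) (Equiv.refl _))).trans pairs.symm
        map_one' := by ext i; simp
        map_mul' := fun a a' => by ext i; simp [Prod.map, add_assoc] }
    let κ := Fin (Module.finrank K L)
    letI : MulAction (Multiplicative (ZMod (q ^ e))) (Fin (q ^ e * r) → κ) :=
      { smul := fun a f => f ∘ (sh a).symm
        one_smul := fun f => by funext i; show f ((sh 1).symm i) = f i; rw [map_one]; rfl
        mul_smul := fun a a' f => by
          funext i; show f ((sh (a * a')).symm i) = f ((sh a').symm ((sh a).symm i)); rw [map_mul]; rfl }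
    have hsum : t = ∑ f : Fin (q ^ e * r) → κ, B.repr t f • PiTensorProduct.tprod K (fun i => b (f i)) := by
      conv_lhs => rw [← B.sum_repr t]
      refine Finset.sum_congr rfl fun f _ => ?_
      congr 1
      exact Basis.piTensorProduct_apply _ f
    have hinv : ∀ (σ : Equiv.Perm (Fin (q ^ e * r))) (f : Fin (q ^ e * r) → κ), B.repr t (f ∘ σ.symm) = B.repr t f := by
      intro σ f
      have h : ∀ (t : ⨂[K] _ : Fin (q ^ e * r), L) (f : Fin (q ^ e * r) → κ),
          B.repr (PiTensorProduct.reindex K (fun _ : Fin (q ^ e * r) => L) σ t) (f ∘ σ.symm) = B.repr t f := by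
        intro t f
        induction t using PiTensorProduct.induction_on with
        | smul_tprod c x =>
          simp only [B, map_smul, PiTensorProduct.reindex_tprod, Finsupp.smul_apply,
            Basis.piTensorProduct_repr_tprod_apply]
          congr 1
          exact Fintype.prod_equiv σ.symm _ _ fun i => by simp
        | add x y hx hy => simp only [map_add, Finsupp.add_apply, hx, hy]
      have := h t f
      rwa [ht σ] at this
    rw [hsum, map_sum]
    simp only [map_smul, PiTensorProduct.lift.tprod, MultilinearMap.mkPiAlgebra_apply]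
    refine sum_mem_of_fixed (p := q) (G := Multiplicative (ZMod (q ^ e))) ?_
      (algebraMap K L).range.toAddSubgroup _ ?_ ?_
    · refine IsPGroup.of_card (n := e) ?_
      rw [Nat.card_congr Multiplicative.toAdd, Nat.card_zmod]
    · intro a f
      show B.repr t (f ∘ (sh a).symm) • ∏ i, b (f ((sh a).symm i)) = _
      rw [hinv, Equiv.prod_comp (sh a).symm (fun i => b (f i))]
    · intro f hf
      show _ ∈ Set.range (algebraMap K L)
      have hc : ∀ (j : Fin r) (a : ZMod (q ^ e)), f (pairs.symm (a, j)) = f (pairs.symm (0, j)) := fun j a => by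
        have := congrFun (hf (Multiplicative.ofAdd (-a))) (pairs.symm (0, j))
        change f ((sh (Multiplicative.ofAdd (-a))).symm _) = _ at this
        simpa [sh] using this
      have hprod : ∏ i, b (f i) = ∏ j : Fin r, b (f (pairs.symm (0, j))) ^ q ^ e := by
        rw [← Equiv.prod_comp pairs.symm (fun i => b (f i)), Fintype.prod_prod_type_right]
        exact Finset.prod_congr rfl fun j _ => by simp [hc, Finset.card_univ]
      choose c hc' using fun j : Fin r => hpow (b (f (pairs.symm (0, j))))
      exact ⟨B.repr t f * ∏ j, c j, by rw [map_mul, map_prod, hprod, Algebra.smul_def, Finset.prod_congr rfl fun j _ => hc' j]⟩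

end Groth.Agent.ChowSym29
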